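import Mathlib.NumberTheory.ZetaValues
import Mathlib.Tactic

/-!
# The signs of the Bernoulli numbers

`(-1)^{k+1} B_{2k} > 0` for `k ≥ 1`, from `ζ(2k) > 0`; and the eventual sign of a polynomial with
given leading term.
-/

set_option autoImplicit false

open Real

namespace K933.BernSign

lemma neg_one_pow_mul_bernoulli_pos {k : ℕ} (hk : k ≠ 0) :
    (0 : ℚ) < (-1) ^ (k + 1) * bernoulli (2 * k) := by
  have h := hasSum_zeta_nat hk
  have h1 : (0 : ℝ) < (-1 : ℝ) ^ (k + 1) * (2 : ℝ) ^ (2 * k - 1) * π ^ (2 * k) *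
      bernoulli (2 * k) / (Nat.factorial (2 * k)) := by
    have h2 : (1 : ℝ) / ((1 : ℕ) : ℝ) ^ (2 * k) ≤ (-1 : ℝ) ^ (k + 1) * (2 : ℝ) ^ (2 * k - 1) *
        π ^ (2 * k) * bernoulli (2 * k) / (Nat.factorial (2 * k)) :=
      le_hasSum h 1 (fun n _ => by positivity)
    refine lt_of_lt_of_le ?_ h2
    positivity
  have h3 : (0 : ℝ) < (-1 : ℝ) ^ (k + 1) * bernoulli (2 * k) := by
    have h4 : (-1 : ℝ) ^ (k + 1) * (2 : ℝ) ^ (2 * k - 1) * π ^ (2 * k) *
      bernoulli (2 * k) / (Nat.factorial (2 * k)) =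
        ((-1 : ℝ) ^ (k + 1) * bernoulli (2 * k)) *
          ((2 : ℝ) ^ (2 * k - 1) * π ^ (2 * k) / (Nat.factorial (2 * k))) := by ring
    rw [h4] at h1
    have h5 : (0 : ℝ) < (2 : ℝ) ^ (2 * k - 1) * π ^ (2 * k) / (Nat.factorial (2 * k)) := by
      positivity
    exact (mul_pos_iff_of_pos_right h5).1 h1
  exact_mod_cast h3

lemma bernoulli'_four_mul_neg {m : ℕ} (hm : m ≠ 0) : bernoulli' (4 * m) < 0 := by
  have h := neg_one_pow_mul_bernoulli_pos (k := 2 * m) (by omega)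
  rw [← mul_assoc, show 2 * 2 = 4 from rfl] at h
  have h1 : ((-1 : ℚ)) ^ (2 * m + 1) = -1 := by
    rw [pow_succ, pow_mul]
    norm_num
  rw [h1, bernoulli_eq_bernoulli'_of_ne_one (by omega)] at h
  linarith

lemma bernoulli'_four_mul_add_two_pos (m : ℕ) : 0 < bernoulli' (4 * m + 2) := by
  have h := neg_one_pow_mul_bernoulli_pos (k := 2 * m + 1) (by omega)
  rw [show 2 * (2 * m + 1) = 4 * m + 2 by ring] at h
  have h1 : ((-1 : ℚ)) ^ (2 * m + 1 + 1) = 1 := by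
    rw [show 2 * m + 1 + 1 = 2 * (m + 1) by ring, pow_mul]
    norm_num
  rw [h1, bernoulli_eq_bernoulli'_of_ne_one (by omega)] at h
  linarith

end K933.BernSign
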