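import Mathlib.NumberTheory.Bernoulli
import Mathlib.RingTheory.PowerSeries.Inverse
import Mathlib.Algebra.Polynomial.Degree.Defs
import Mathlib.Algebra.Polynomial.Eval.Defs
import Mathlib.Algebra.Polynomial.BigOperators
import Mathlib.Algebra.Polynomial.Eval.Degree
import Mathlib.Tactic

/-!
# The Todd product `B(-dx)⁻¹ B(-dpx) B(x)ⁿ⁺¹ e^{(dp-d-n-1+s)x}`

`B(x) = x/(1-e^{-x})` satisfies `B(-x) eˣ = B(x)`, so that the product is `G(x) B(dpx)` with
`G(x) = B(-dx)⁻¹ B(x)ⁿ⁺¹ e^{(s-d-n-1)x}` independent of `p`.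
-/

set_option autoImplicit false

open PowerSeries Finset

namespace K933.Todd

/-- the Bernoulli power series `x / (1 - e^{-x})` -/
noncomputable abbrev B : PowerSeries ℚ := bernoulli'PowerSeries ℚ

/-- the exponential series -/
noncomputable abbrev E : PowerSeries ℚ := PowerSeries.exp ℚ

lemma coeff_B (n : ℕ) : coeff n B = bernoulli' n / (Nat.factorial n : ℚ) := by
  simp [B, bernoulli'PowerSeries]

lemma coeff_E (n : ℕ) : coeff n E = 1 / (Nat.factorial n : ℚ) := by
  simp [E, PowerSeries.coeff_exp]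

lemma rescale_neg_one_B : rescale (-1 : ℚ) B * E = B := by
  have h1 : B * (E - 1) = X * E := bernoulli'PowerSeries_mul_exp_sub_one ℚ
  have h2 : rescale (-1 : ℚ) (B * (E - 1)) = rescale (-1 : ℚ) (X * E) := by rw [h1]
  have h3 : rescale (-1 : ℚ) E * E = 1 := by
    have h := PowerSeries.exp_mul_exp_eq_exp_add (A := ℚ) (-1) 1
    rw [show rescale (1 : ℚ) (PowerSeries.exp ℚ) = PowerSeries.exp ℚ by
      rw [PowerSeries.rescale_one]; rfl] at h
    rw [show (-1 : ℚ) + 1 = 0 by norm_num, PowerSeries.rescale_zero] at h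
    rw [show E = PowerSeries.exp ℚ from rfl, h]
    simp
  rw [map_mul, map_sub, map_one, map_mul] at h2
  have h4 : rescale (-1 : ℚ) (X : PowerSeries ℚ) = -X := by
    rw [PowerSeries.rescale_X]
    simp
  rw [h4] at h2
  -- `B(-x) (e^{-x} - 1) eˣ = - x`
  have h5 : rescale (-1 : ℚ) B * (E - 1) = X := by
    have h6 : (rescale (-1 : ℚ) B * (rescale (-1 : ℚ) E - 1)) * E = -X * rescale (-1 : ℚ) E * E := by
      rw [h2]
    have h7 : (rescale (-1 : ℚ) B * (rescale (-1 : ℚ) E - 1)) * E =
        rescale (-1 : ℚ) B * (rescale (-1 : ℚ) E * E - E) := by ring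
    rw [h7, h3, mul_assoc, h3] at h6
    linear_combination -h6
  have hne : (E - 1 : PowerSeries ℚ) ≠ 0 := by
    intro h
    have h8 := congrArg (coeff 1) h
    simp [PowerSeries.coeff_exp, PowerSeries.coeff_one] at h8
  apply mul_right_cancel₀ hne
  rw [h1]
  linear_combination E * h5

lemma rescale_neg_B (c : ℚ) : rescale (-c) B * rescale c E = rescale c B := by
  have h := congrArg (rescale c) rescale_neg_one_B
  rw [map_mul, PowerSeries.rescale_rescale] at h
  rw [← h]
  congr 2
  simp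

lemma rescale_add_E (a b : ℚ) : rescale (a + b) E = rescale a E * rescale b E :=
  (PowerSeries.exp_mul_exp_eq_exp_add (A := ℚ) a b).symm

/-- the factor of the Todd product that does not depend on `p` -/
noncomputable def G (n : ℕ) (d c : ℚ) : PowerSeries ℚ :=
  (rescale (-d) B)⁻¹ * B ^ n * rescale c E

lemma todd_eq (n : ℕ) (d y c : ℚ) :
    (rescale (-d) B)⁻¹ * rescale (-y) B * B ^ n * rescale (y + c) E = rescale y B * G n d c := by
  rw [rescale_add_E, G, ← rescale_neg_B y]
  ring

lemma coeff_todd (n k : ℕ) (d y c : ℚ) :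
    coeff k ((rescale (-d) B)⁻¹ * rescale (-y) B * B ^ n * rescale (y + c) E) =
      ∑ i ∈ range (k + 1), bernoulli' i / (Nat.factorial i : ℚ) * y ^ i * coeff (k - i) (G n d c) := by
  rw [todd_eq, PowerSeries.coeff_mul,
    Finset.Nat.sum_antidiagonal_eq_sum_range_succ
      (fun i j => coeff i (rescale y B) * coeff j (G n d c))]
  refine Finset.sum_congr rfl fun i _ => ?_
  rw [PowerSeries.coeff_rescale, coeff_B]
  ring

/-! ### low coefficients of products, powers and inverses -/

section low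

variable (f g : PowerSeries ℚ)

lemma coeff_mul_zero' : coeff 0 (f * g) = coeff 0 f * coeff 0 g := by
  rw [PowerSeries.coeff_mul]
  simp

lemma coeff_mul_one' : coeff 1 (f * g) = coeff 0 f * coeff 1 g + coeff 1 f * coeff 0 g := by
  rw [PowerSeries.coeff_mul, Finset.Nat.sum_antidiagonal_eq_sum_range_succ
      (fun i j => coeff i f * coeff j g)]
  simp [Finset.sum_range_succ]

lemma coeff_mul_two' : coeff 2 (f * g) =
    coeff 0 f * coeff 2 g + coeff 1 f * coeff 1 g + coeff 2 f * coeff 0 g := by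
  rw [PowerSeries.coeff_mul, Finset.Nat.sum_antidiagonal_eq_sum_range_succ
      (fun i j => coeff i f * coeff j g)]
  simp [Finset.sum_range_succ]

lemma coeff_mul_three' : coeff 3 (f * g) =
    coeff 0 f * coeff 3 g + coeff 1 f * coeff 2 g + coeff 2 f * coeff 1 g
      + coeff 3 f * coeff 0 g := by
  rw [PowerSeries.coeff_mul, Finset.Nat.sum_antidiagonal_eq_sum_range_succ
      (fun i j => coeff i f * coeff j g)]
  simp [Finset.sum_range_succ]

end low

lemma coeff_zero_inv (d : ℚ) : coeff 0 ((rescale (-d) B)⁻¹) = 1 := by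
  have hc : constantCoeff (rescale (-d) B) ≠ 0 := by
    rw [← PowerSeries.coeff_zero_eq_constantCoeff_apply, PowerSeries.coeff_rescale, coeff_B]
    simp
  have h := PowerSeries.mul_inv_cancel (rescale (-d) B) hc
  have h0 := congrArg (coeff 0) h
  rw [coeff_mul_zero', PowerSeries.coeff_rescale, coeff_B] at h0
  simpa using h0

lemma mul_inv_cancel' (d : ℚ) : rescale (-d) B * (rescale (-d) B)⁻¹ = 1 := by
  apply PowerSeries.mul_inv_cancel
  rw [← PowerSeries.coeff_zero_eq_constantCoeff_apply, PowerSeries.coeff_rescale, coeff_B]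
  simp

lemma coeff_one_inv (d : ℚ) : coeff 1 ((rescale (-d) B)⁻¹) = d / 2 := by
  have h0 := congrArg (coeff 1) (mul_inv_cancel' d)
  rw [coeff_mul_one', PowerSeries.coeff_rescale, PowerSeries.coeff_rescale, coeff_B, coeff_B,
    coeff_zero_inv, PowerSeries.coeff_one] at h0
  simp at h0
  linarith

lemma coeff_two_inv (d : ℚ) : coeff 2 ((rescale (-d) B)⁻¹) = d ^ 2 / 6 := by
  have h0 := congrArg (coeff 2) (mul_inv_cancel' d)
  rw [coeff_mul_two', PowerSeries.coeff_rescale, PowerSeries.coeff_rescale,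
    PowerSeries.coeff_rescale, coeff_B, coeff_B, coeff_B,
    coeff_zero_inv, coeff_one_inv, PowerSeries.coeff_one] at h0
  simp at h0
  linarith

lemma coeff_three_inv (d : ℚ) : coeff 3 ((rescale (-d) B)⁻¹) = d ^ 3 / 24 := by
  have h0 := congrArg (coeff 3) (mul_inv_cancel' d)
  rw [coeff_mul_three', PowerSeries.coeff_rescale, PowerSeries.coeff_rescale,
    PowerSeries.coeff_rescale, PowerSeries.coeff_rescale, coeff_B, coeff_B, coeff_B, coeff_B,
    coeff_zero_inv, coeff_one_inv, coeff_two_inv, PowerSeries.coeff_one] at h0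
  simp at h0
  linarith

lemma coeff_zero_B_pow (n : ℕ) : coeff 0 (B ^ n) = 1 := by
  rw [PowerSeries.coeff_zero_eq_constantCoeff_apply, map_pow,
    ← PowerSeries.coeff_zero_eq_constantCoeff_apply, coeff_B]
  simp

lemma coeff_one_B_pow (n : ℕ) : coeff 1 (B ^ n) = n / 2 := by
  induction n with
  | zero => simp [PowerSeries.coeff_one]
  | succ n ih =>
    rw [pow_succ, coeff_mul_one', ih, coeff_zero_B_pow, coeff_B, coeff_B]
    simp
    ring

lemma coeff_zero_G (n : ℕ) (d c : ℚ) : coeff 0 (G n d c) = 1 := by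
  rw [G, coeff_mul_zero', coeff_mul_zero', coeff_zero_inv, coeff_zero_B_pow,
    PowerSeries.coeff_rescale, coeff_E]
  simp

lemma coeff_one_G (n : ℕ) (d c : ℚ) : coeff 1 (G n d c) = d / 2 + n / 2 + c := by
  rw [G, coeff_mul_one', coeff_mul_one', coeff_mul_zero', coeff_zero_inv, coeff_one_inv,
    coeff_zero_B_pow, coeff_one_B_pow, PowerSeries.coeff_rescale, PowerSeries.coeff_rescale,
    coeff_E, coeff_E]
  simp
  ring

/-- the polynomial of the lower terms -/
noncomputable def lower (n d : ℕ) (c : ℚ) : Polynomial ℚ :=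
  ∑ i ∈ range (n - 1), Polynomial.monomial i
    (bernoulli' i / (Nat.factorial i : ℚ) * (d : ℚ) ^ i * coeff (n - i) (G (n + 1) d c))

lemma natDegree_lower (n d : ℕ) (hn : 2 ≤ n) (c : ℚ) : (lower n d c).natDegree ≤ n - 2 := by
  apply Polynomial.natDegree_sum_le_of_forall_le
  intro i hi
  refine (Polynomial.natDegree_monomial_le _).trans ?_
  have := Finset.mem_range.1 hi
  omega

lemma eval_lower (n d : ℕ) (c x : ℚ) : (lower n d c).eval x =
    ∑ i ∈ range (n - 1), bernoulli' i / (Nat.factorial i : ℚ) * ((d : ℚ) * x) ^ i *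
      coeff (n - i) (G (n + 1) d c) := by
  rw [lower, Polynomial.eval_finsetSum]
  refine Finset.sum_congr rfl fun i _ => ?_
  rw [Polynomial.eval_monomial, mul_pow]
  ring

lemma coeff_todd_leading (n d : ℕ) (hn : 2 ≤ n) (c x : ℚ) :
    coeff n ((rescale (-(d : ℚ)) B)⁻¹ * rescale (-((d : ℚ) * x)) B * B ^ (n + 1) *
        rescale ((d : ℚ) * x + c) E) =
      bernoulli' n * ((d : ℚ) * x) ^ n / (Nat.factorial n : ℚ) +
          (d / 2 + (n + 1) / 2 + c) * bernoulli' (n - 1) * ((d : ℚ) * x) ^ (n - 1) /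
            (Nat.factorial (n - 1) : ℚ) +
          (lower n d c).eval x := by
  obtain ⟨m, rfl⟩ : ∃ m, n = m + 2 := ⟨n - 2, by omega⟩
  rw [coeff_todd, eval_lower, Finset.sum_range_succ, Finset.sum_range_succ]
  have h1 : m + 2 - (m + 2) = 0 := by omega
  have h2 : m + 2 - (m + 1) = 1 := by omega
  have h3 : m + 2 - 1 = m + 1 := by omega
  rw [h1, h2, h3, coeff_zero_G, coeff_one_G]
  push_cast
  ring

end K933.Todd
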