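import Mathlib.Analysis.Polynomial.Basic
import Mathlib.Tactic
import Groth.Agent.MoretBailly.K933.Todd
import Groth.Agent.MoretBailly.K933.BernSign

/-!
# Eventual negativity of the coefficient of the Todd product
-/

set_option autoImplicit false

open Polynomial Filter

namespace K933.EvNeg

lemma eventually_neg {k : ℕ} (hk : 1 ≤ k) {a : ℚ} (ha : a < 0) (R : Polynomial ℚ)
    (hR : R.natDegree < k) : ∃ P : ℕ, ∀ p : ℕ, P ≤ p → a * (p : ℚ) ^ k + R.eval (p : ℚ) < 0 := by
  set Q : Polynomial ℚ := R + C a * X ^ k with hQ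
  have hdegR : R.degree < (C a * X ^ k : Polynomial ℚ).degree := by
    rw [degree_C_mul_X_pow k ha.ne]
    exact lt_of_le_of_lt degree_le_natDegree (by exact_mod_cast hR)
  have hdeg : Q.degree = k := by
    rw [hQ, degree_add_eq_right_of_degree_lt hdegR, degree_C_mul_X_pow k ha.ne]
  have hlead : Q.leadingCoeff = a := by
    rw [hQ, leadingCoeff_add_of_degree_lt hdegR, leadingCoeff_C_mul_X_pow]
  have ht : Tendsto (fun x : ℚ => eval x Q) atTop atBot := by
    apply Q.tendsto_atBot_of_leadingCoeff_nonpos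
    · rw [hdeg]
      exact_mod_cast hk
    · rw [hlead]
      exact ha.le
  have ht2 : Tendsto (fun p : ℕ => eval (p : ℚ) Q) atTop atBot :=
    ht.comp tendsto_natCast_atTop_atTop
  obtain ⟨P, hP⟩ := (ht2.eventually (eventually_lt_atBot (0 : ℚ))).exists_forall_of_atTop
  refine ⟨P, fun p hp => ?_⟩
  have h := hP p hp
  rw [hQ, eval_add, eval_mul, eval_C, eval_pow, eval_X] at h
  linarith

/-- the coefficient is eventually negative as soon as `B'_n < 0`, or `B'_n = 0` and the second
coefficient is negative. -/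
lemma todd_eventually_neg (n d : ℕ) (hn : 2 ≤ n) (hd : 1 ≤ d) (c : ℚ)
    (h : bernoulli' n < 0 ∨
      (bernoulli' n = 0 ∧ ((d : ℚ) / 2 + (n + 1) / 2 + c) * bernoulli' (n - 1) < 0)) :
    ∃ P : ℕ, ∀ p : ℕ, P ≤ p →
      PowerSeries.coeff n ((PowerSeries.rescale (-(d : ℚ)) Todd.B)⁻¹ *
        PowerSeries.rescale (-((d : ℚ) * p)) Todd.B * Todd.B ^ (n + 1) *
        PowerSeries.rescale ((d : ℚ) * p + c) Todd.E) < 0 := by
  have hd0 : (0 : ℚ) < d := by exact_mod_cast hd
  have hlow := Todd.natDegree_lower n d hn c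
  rcases h with h | ⟨h0, h⟩
  · set b : ℚ := (d / 2 + (n + 1) / 2 + c) * bernoulli' (n - 1) * (d : ℚ) ^ (n - 1) /
      (Nat.factorial (n - 1) : ℚ) with hb
    obtain ⟨P, hP⟩ := eventually_neg (k := n) (by omega)
      (a := bernoulli' n * (d : ℚ) ^ n / (Nat.factorial n : ℚ)) (by
        have h1 : (0 : ℚ) < (d : ℚ) ^ n / (Nat.factorial n : ℚ) := by positivity
        rw [mul_div_assoc]
        exact mul_neg_of_neg_of_pos h h1)
      (C b * X ^ (n - 1) + Todd.lower n d c) (by
        refine lt_of_le_of_lt (natDegree_add_le _ _) (max_lt ?_ ?_)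
        · exact lt_of_le_of_lt (natDegree_C_mul_X_pow_le _ _) (by omega)
        · omega)
    refine ⟨P, fun p hp => ?_⟩
    rw [Todd.coeff_todd_leading n d hn c (p : ℚ)]
    have h2 := hP p hp
    rw [eval_add, eval_mul, eval_C, eval_pow, eval_X, hb] at h2
    refine lt_of_eq_of_lt ?_ h2
    rw [mul_pow, mul_pow]
    ring
  · obtain ⟨P, hP⟩ := eventually_neg (k := n - 1) (by omega)
      (a := (d / 2 + (n + 1) / 2 + c) * bernoulli' (n - 1) * (d : ℚ) ^ (n - 1) /
        (Nat.factorial (n - 1) : ℚ)) (by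
        have h1 : (0 : ℚ) < (d : ℚ) ^ (n - 1) / (Nat.factorial (n - 1) : ℚ) := by positivity
        rw [mul_div_assoc]
        exact mul_neg_of_neg_of_pos h h1)
      (Todd.lower n d c) (by omega)
    refine ⟨P, fun p hp => ?_⟩
    rw [Todd.coeff_todd_leading n d hn c (p : ℚ), h0]
    refine lt_of_eq_of_lt ?_ (hP p hp)
    rw [mul_pow, mul_pow]
    ring

end K933.EvNeg
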