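import Groth.Agent.MoretBailly.K933.Todd

/-!
# The coefficient of `x³` of the Todd product for `n = 3`, `s = 1`
-/

set_option autoImplicit false

open PowerSeries Finset K933.Todd

namespace K933.Todd3

lemma c0 : coeff 0 B = 1 := by rw [coeff_B]; simp
lemma c1 : coeff 1 B = 1 / 2 := by rw [coeff_B]; simp
lemma c2 : coeff 2 B = 1 / 12 := by rw [coeff_B, bernoulli'_two]; norm_num [Nat.factorial]
lemma c3 : coeff 3 B = 0 := by rw [coeff_B, bernoulli'_three]; simp

lemma c0_two : coeff 0 (B * B) = 1 := by rw [coeff_mul_zero', c0]; norm_num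
lemma c1_two : coeff 1 (B * B) = 1 := by rw [coeff_mul_one', c0, c1]; norm_num
lemma c2_two : coeff 2 (B * B) = 5 / 12 := by rw [coeff_mul_two', c0, c1, c2]; norm_num
lemma c3_two : coeff 3 (B * B) = 1 / 12 := by rw [coeff_mul_three', c0, c1, c2, c3]; norm_num

lemma c0_four : coeff 0 (B ^ 4) = 1 := by
  rw [show B ^ 4 = (B * B) * (B * B) by ring, coeff_mul_zero', c0_two]; norm_num
lemma c1_four : coeff 1 (B ^ 4) = 2 := by
  rw [show B ^ 4 = (B * B) * (B * B) by ring, coeff_mul_one', c0_two, c1_two]; norm_num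
lemma c2_four : coeff 2 (B ^ 4) = 11 / 6 := by
  rw [show B ^ 4 = (B * B) * (B * B) by ring, coeff_mul_two', c0_two, c1_two, c2_two]; norm_num
lemma c3_four : coeff 3 (B ^ 4) = 1 := by
  rw [show B ^ 4 = (B * B) * (B * B) by ring, coeff_mul_three', c0_two, c1_two, c2_two, c3_two]
  norm_num

lemma e0 (c : ℚ) : coeff 0 (rescale c E) = 1 := by rw [coeff_rescale, coeff_E]; simp
lemma e1 (c : ℚ) : coeff 1 (rescale c E) = c := by rw [coeff_rescale, coeff_E]; simp
lemma e2 (c : ℚ) : coeff 2 (rescale c E) = c ^ 2 / 2 := by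
  rw [coeff_rescale, coeff_E]; norm_num [Nat.factorial]; ring
lemma e3 (c : ℚ) : coeff 3 (rescale c E) = c ^ 3 / 6 := by
  rw [coeff_rescale, coeff_E]; norm_num [Nat.factorial]; ring

lemma coeff_three_todd (d p : ℚ) :
    coeff 3 ((rescale (-d) B)⁻¹ * rescale (-(d * p)) B * B ^ 4 * rescale (d * p + (-d - 3)) E) =
      -(d * (d + 2) * (p - 1) * (d * p - d - 2)) / 24 := by
  rw [coeff_todd, Finset.sum_range_succ, Finset.sum_range_succ, Finset.sum_range_succ,
    Finset.sum_range_one]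
  have h1 : 3 - 0 = 3 := rfl
  have h2 : 3 - 1 = 2 := rfl
  have h3 : 3 - 2 = 1 := rfl
  have h4 : 3 - 3 = 0 := rfl
  rw [h1, h2, h3, h4, G, coeff_mul_three', coeff_mul_two' _ (rescale _ E),
    coeff_mul_one' _ (rescale _ E), coeff_mul_zero' _ (rescale _ E),
    coeff_mul_three', coeff_mul_two' _ (B ^ 4), coeff_mul_one' _ (B ^ 4),
    coeff_mul_zero' _ (B ^ 4), coeff_zero_inv, coeff_one_inv, coeff_two_inv, coeff_three_inv,
    c0_four, c1_four, c2_four, c3_four, e0, e1, e2, e3, bernoulli'_zero, bernoulli'_one,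
    bernoulli'_two, bernoulli'_three]
  norm_num [Nat.factorial]
  ring

end K933.Todd3
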